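import Cfsg.Agent.Lin.Unitary
import Mathlib.Analysis.SpecialFunctions.Trigonometric.Bounds
import Mathlib.Analysis.SpecialFunctions.Complex.Arg
import Mathlib.GroupTheory.QuotientGroup.Basic
import Mathlib.GroupTheory.Coset.Card

/-!
# Abelian normal subgroups of finite linear groups (Blichfeldt, Frobenius)
-/

set_option autoImplicit false

namespace Cfsg.Agent.Lin

open Module

open scoped InnerProductSpace commutatorElement Real

set_option linter.unusedSectionVars false

section Box

/-- which of the twelve arcs of length `π/6` a complex number lies in -/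
noncomputable def bx (z : ℂ) : Fin 12 := Fin.ofNat 12 (⌈(Complex.arg z + π) * 6 / π⌉₊ - 1)

theorem bx_close (z w : ℂ) (hz : ‖z‖ = 1) (hw : ‖w‖ = 1) (h : bx z = bx w) :
    ‖z * w⁻¹ - (Real.cos (π / 6) : ℂ)‖ < 1 / 2 := by
  have hπ := Real.pi_pos
  have hb : ∀ u : ℂ, 1 ≤ ⌈(Complex.arg u + π) * 6 / π⌉₊ ∧ ⌈(Complex.arg u + π) * 6 / π⌉₊ ≤ 12 := by
    intro u
    have h1 := Complex.neg_pi_lt_arg u
    have h2 := Complex.arg_le_pi u
    constructor
    · rw [Nat.one_le_ceil_iff]
      apply div_pos _ hπ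
      nlinarith
    · apply Nat.ceil_le.mpr
      rw [div_le_iff₀ hπ]
      push_cast
      nlinarith
  have hceil : ⌈(Complex.arg z + π) * 6 / π⌉₊ = ⌈(Complex.arg w + π) * 6 / π⌉₊ := by
    have h1 := congrArg Fin.val h
    simp only [bx, Fin.val_ofNat] at h1
    have h2 := hb z
    have h3 := hb w
    rw [Nat.mod_eq_of_lt (by omega), Nat.mod_eq_of_lt (by omega)] at h1
    omega
  set δ := Complex.arg z - Complex.arg w with hδ
  have hδ' : |δ| < π / 6 := by
    have e1 := Nat.le_ceil ((Complex.arg z + π) * 6 / π)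
    have e2 := Nat.le_ceil ((Complex.arg w + π) * 6 / π)
    have h0z : 0 ≤ (Complex.arg z + π) * 6 / π := by
      have := Complex.neg_pi_lt_arg z
      apply div_nonneg _ hπ.le
      nlinarith
    have h0w : 0 ≤ (Complex.arg w + π) * 6 / π := by
      have := Complex.neg_pi_lt_arg w
      apply div_nonneg _ hπ.le
      nlinarith
    have e3 := Nat.ceil_lt_add_one h0z
    have e4 := Nat.ceil_lt_add_one h0w
    rw [hceil] at e1 e3
    rw [abs_lt]
    have f1 : (Complex.arg z + π) * 6 / π < (Complex.arg w + π) * 6 / π + 1 := lt_of_le_of_lt e1 e4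
    have f2 : (Complex.arg w + π) * 6 / π < (Complex.arg z + π) * 6 / π + 1 := lt_of_le_of_lt e2 e3
    have g1 : (Complex.arg z + π) * 6 < (Complex.arg w + π) * 6 + π := by
      have := (div_lt_iff₀ hπ).mp f1
      have e : ((Complex.arg w + π) * 6 / π + 1) * π = (Complex.arg w + π) * 6 + π := by
        field_simp
      linarith
    have g2 : (Complex.arg w + π) * 6 < (Complex.arg z + π) * 6 + π := by
      have := (div_lt_iff₀ hπ).mp f2
      have e : ((Complex.arg z + π) * 6 / π + 1) * π = (Complex.arg z + π) * 6 + π := by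
        field_simp
      linarith
    constructor <;> rw [hδ] <;> linarith
  have hzw : z * w⁻¹ = Complex.exp (δ * Complex.I) := by
    have e1 : z = Complex.exp (Complex.arg z * Complex.I) := by
      conv_lhs => rw [← Complex.norm_mul_exp_arg_mul_I z, hz]
      simp
    have e2 : w = Complex.exp (Complex.arg w * Complex.I) := by
      conv_lhs => rw [← Complex.norm_mul_exp_arg_mul_I w, hw]
      simp
    conv_lhs => rw [e1, e2, ← Complex.exp_neg, ← Complex.exp_add]
    rw [hδ]
    congr 1
    push_cast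
    ring
  rw [hzw]
  have hcos : Real.cos (π / 6) < Real.cos δ := by
    rw [← Real.cos_abs δ]
    apply Real.cos_lt_cos_of_nonneg_of_le_pi (abs_nonneg _) _ hδ'
    linarith
  have hc := Real.cos_pi_div_six
  have hc2 : Real.cos (π / 6) ^ 2 = 3 / 4 := by
    rw [hc, div_pow, Real.sq_sqrt (by norm_num)]; norm_num
  have hcpos : 0 < Real.cos (π / 6) := by rw [hc]; positivity
  have hsq : ‖Complex.exp (δ * Complex.I) - (Real.cos (π / 6) : ℂ)‖ ^ 2
      = (Real.cos δ - Real.cos (π / 6)) ^ 2 + Real.sin δ ^ 2 := by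
    rw [Complex.sq_norm, Complex.normSq_apply, Complex.exp_mul_I, ← Complex.ofReal_cos,
      ← Complex.ofReal_sin]
    simp only [Complex.sub_re, Complex.add_re, Complex.ofReal_re, Complex.mul_re, Complex.I_re,
      Complex.ofReal_im, Complex.I_im, Complex.sub_im, Complex.add_im, Complex.mul_im]
    ring
  have h1 : ‖Complex.exp (δ * Complex.I) - (Real.cos (π / 6) : ℂ)‖ ^ 2 < (1 / 2) ^ 2 := by
    rw [hsq]
    nlinarith [Real.sin_sq_add_cos_sq δ]
  exact lt_of_pow_lt_pow_left₀ 2 (by norm_num) h1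

end Box

section Unitary

variable {G : Type*} [Group G] {E : Type*} [NormedAddCommGroup E] [InnerProductSpace ℂ E]
  [FiniteDimensional ℂ E]

theorem near_of_diag {n : ℕ} (b : OrthonormalBasis (Fin n) ℂ E) (T : Module.End ℂ E)
    (μ : Fin n → ℂ) (c : ℂ) (hT : ∀ j, T (b j) = μ j • b j) (hμ : ∀ j, ‖μ j - c‖ < 1 / 2) :
    Near T := by
  obtain ⟨r, hr0, hr, hr2⟩ : ∃ r : ℝ, 0 ≤ r ∧ r < 1 / 2 ∧ ∀ j, ‖μ j - c‖ ≤ r := by
    by_cases hn : Nonempty (Fin n)
    · obtain ⟨j0, hj0⟩ := Finite.exists_max (fun j => ‖μ j - c‖)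
      exact ⟨‖μ j0 - c‖, norm_nonneg _, hμ j0, hj0⟩
    · exact ⟨0, le_rfl, by norm_num, fun j => absurd ⟨j⟩ hn⟩
  refine ⟨c, r, hr0, hr, fun v => ?_⟩
  have := norm_le_of_diag b (T - c • 1) (fun j => μ j - c) (fun j => by
    rw [LinearMap.sub_apply, hT, LinearMap.smul_apply, Module.End.one_apply, sub_smul]) r hr0 hr2 v
  simpa using this

variable [Finite G] (ρ : Representation ℂ G E) (hiso : ∀ g u v, ⟪ρ g u, ρ g v⟫_ℂ = ⟪u, v⟫_ℂ)
  (hinj : Function.Injective ρ)

include hiso hinj

theorem exists_abelian_normal_of_unitary :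
    ∃ A : Subgroup G, A.Normal ∧ (∀ x ∈ A, ∀ y ∈ A, x * y = y * x) ∧
      (∀ g, Near (ρ g) → g ∈ A) ∧
      ∀ H : Subgroup G, (∀ x ∈ H, ∀ y ∈ H, x * y = y * x) →
        (A.subgroupOf H).index ≤ 12 ^ (finrank ℂ E) := by
  classical
  set X : Set G := {g | Near (ρ g)} with hX
  have hXconj : Group.conjugatesOfSet X ⊆ X := by
    intro g hg
    rw [Group.mem_conjugatesOfSet_iff] at hg
    obtain ⟨a, ha, hag⟩ := hg
    obtain ⟨c, rfl⟩ := isConj_iff.mp hag
    exact near_conj ρ hiso a c ha
  have hcomm : ∀ x ∈ Subgroup.normalClosure X, ∀ y ∈ Subgroup.normalClosure X, x * y = y * x := by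
    intro x hx y hy
    have h1 : Subgroup.normalClosure X ≤ Subgroup.closure X :=
      (Subgroup.closure_le _).mpr (hXconj.trans Subgroup.subset_closure)
    have h2 : X ⊆ Subgroup.centralizer (Subgroup.closure X : Set G) := by
      intro g hg
      rw [Subgroup.centralizer_closure]
      intro h hh
      exact (commute_of_near ρ hiso hinj g h hg hh).symm
    have h3 : Subgroup.closure X ≤ Subgroup.centralizer (Subgroup.closure X : Set G) :=
      (Subgroup.closure_le _).mpr h2
    have h4 := h3 (h1 hy)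
    rw [Subgroup.mem_centralizer_iff] at h4
    exact h4 x (h1 hx)
  refine ⟨Subgroup.normalClosure X, Subgroup.normalClosure_normal, hcomm,
    fun g hg => Subgroup.subset_normalClosure hg, fun H hH => ?_⟩
  obtain ⟨b, μ, hμ⟩ := exists_orthonormal_eigenbasis (ι := H) (fun h => ρ (h : G))
    (fun i j => by
      have : Commute (i : G) (j : G) := hH i i.2 j j.2
      exact this.map ρ)
    (fun i => ⟨orderOf (i : G), (orderOf_pos _).ne', by
      rw [← map_pow, pow_orderOf_eq_one, map_one]⟩)
    (fun i u v => hiso _ u v)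
  have hnorm : ∀ j h, ‖μ j h‖ = 1 := by
    intro j h
    have h1 := norm_eq_one_of_isometry (ρ (h : G)) (hiso _) (μ j h) (b j)
      (b.orthonormal.ne_zero j) (hμ j h)
    have h2 : ‖μ j h‖ ^ 2 = 1 := by
      rw [RCLike.conj_mul] at h1
      have h3 : ((‖μ j h‖ ^ 2 : ℝ) : ℂ) = 1 := by push_cast; exact h1
      exact_mod_cast h3
    nlinarith [norm_nonneg (μ j h)]
  have hkey : ∀ h₁ h₂ : H, (∀ j, bx (μ j h₁) = bx (μ j h₂)) →
      ((h₁ : G) * (h₂ : G)⁻¹) ∈ Subgroup.normalClosure X := by
    intro h₁ h₂ hbx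
    apply Subgroup.subset_normalClosure
    change Near (ρ ((h₁ : G) * (h₂ : G)⁻¹))
    apply near_of_diag b _ (fun j => μ j h₁ * (μ j h₂)⁻¹) (Real.cos (π / 6) : ℂ)
    · intro j
      have hne : μ j h₂ ≠ 0 := by
        intro h0; have := hnorm j h₂; rw [h0, norm_zero] at this; exact zero_ne_one this
      have h3 : ρ (h₂ : G)⁻¹ (b j) = (μ j h₂)⁻¹ • b j := by
        have h4 : b j = ρ (h₂ : G)⁻¹ (ρ (h₂ : G) (b j)) := by
          rw [← Module.End.mul_apply, ← map_mul, inv_mul_cancel, map_one, Module.End.one_apply]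
        rw [hμ, map_smul] at h4
        conv_rhs => rw [h4]
        rw [smul_smul, inv_mul_cancel₀ hne, one_smul]
      rw [map_mul, Module.End.mul_apply, h3, map_smul, hμ, smul_smul, mul_comm]
    · intro j
      exact bx_close _ _ (hnorm j h₁) (hnorm j h₂) (hbx j)
  have hcard : Nat.card (Fin (finrank ℂ E) → Fin 12) = 12 ^ (finrank ℂ E) := by
    simp [Nat.card_eq_fintype_card]
  rw [Subgroup.index_eq_card, ← hcard]
  apply Nat.card_le_card_of_injective
    (fun q : H ⧸ ((Subgroup.normalClosure X).subgroupOf H) => fun j => bx (μ j q.out))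
  intro q₁ q₂ hq
  rw [← q₁.out_eq', ← q₂.out_eq']
  rw [eq_comm, QuotientGroup.eq, Subgroup.mem_subgroupOf]
  have h1 := hkey q₁.out q₂.out (fun j => congrFun hq j)
  have h2 : ((q₂.out⁻¹ * q₁.out : H) : G) = (q₁.out : G) * (q₂.out : G)⁻¹ := by
    push_cast
    have := hH (q₂.out : G)⁻¹ (H.inv_mem q₂.out.2) (q₁.out : G) q₁.out.2
    exact this
  rw [h2]
  exact h1

end Unitary

section General

variable {G : Type*} [Group G] [Finite G] {V : Type*} [AddCommGroup V] [Module ℂ V]
  [FiniteDimensional ℂ V] (ρ : Representation ℂ G V)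

/-- every finite group representation has an invariant inner product -/
theorem exists_invariant_core : ∃ c : InnerProductSpace.Core ℂ V,
    ∀ g u v, c.inner (ρ g u) (ρ g v) = c.inner u v := by
  classical
  have := Fintype.ofFinite G
  let b := Module.finBasis ℂ V
  let ip : V → V → ℂ := fun u v => ∑ g : G, ∑ i, (starRingEnd ℂ) (b.repr (ρ g u) i) * b.repr (ρ g v) i
  have hself : ∀ u, ip u u = ((∑ g : G, ∑ i, ‖b.repr (ρ g u) i‖ ^ 2 : ℝ) : ℂ) := by
    intro u
    simp only [ip, Complex.ofReal_sum]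
    refine Finset.sum_congr rfl fun g _ => Finset.sum_congr rfl fun i _ => ?_
    rw [RCLike.conj_mul]
    push_cast
    rfl
  refine ⟨{ inner := ip, conj_inner_symm := ?_, re_inner_nonneg := ?_, add_left := ?_,
            smul_left := ?_, definite := ?_ }, ?_⟩
  · intro x y
    simp only [ip, map_sum, map_mul, RCLike.conj_conj]
    exact Finset.sum_congr rfl fun g _ => Finset.sum_congr rfl fun i _ => mul_comm _ _
  · intro x
    rw [hself]
    simp only [RCLike.re_eq_complex_re, Complex.ofReal_re]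
    positivity
  · intro x y z
    simp only [ip, map_add, Finsupp.coe_add, Pi.add_apply, add_mul, Finset.sum_add_distrib]
  · intro x y r
    simp only [ip, map_smul, Finsupp.coe_smul, Pi.smul_apply, smul_eq_mul, map_mul, mul_assoc,
      Finset.mul_sum]
  · intro x hx
    change ip x x = 0 at hx
    rw [hself] at hx
    have hx' : (∑ g : G, ∑ i, ‖b.repr (ρ g x) i‖ ^ 2 : ℝ) = 0 := by exact_mod_cast hx
    rw [Finset.sum_eq_zero_iff_of_nonneg (fun g _ => by positivity)] at hx'
    have h1 := hx' 1 (Finset.mem_univ _)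
    rw [Finset.sum_eq_zero_iff_of_nonneg (fun i _ => by positivity)] at h1
    apply b.repr.injective
    ext i
    have h2 := h1 i (Finset.mem_univ _)
    rw [map_one, Module.End.one_apply] at h2
    simpa using h2
  · intro g u v
    change ip (ρ g u) (ρ g v) = ip u v
    simp only [ip]
    rw [← Equiv.sum_comp (Equiv.mulRight g) (fun h => ∑ i, (starRingEnd ℂ) (b.repr (ρ h u) i) * b.repr (ρ h v) i)]
    refine Finset.sum_congr rfl fun h _ => Finset.sum_congr rfl fun i _ => ?_
    simp only [Equiv.coe_mulRight, map_mul, Module.End.mul_apply]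

/-- The abelian normal subgroup of a finite linear group. -/
theorem exists_abelian_normal (hinj : Function.Injective ρ) :
    ∃ A : Subgroup G, A.Normal ∧ (∀ x ∈ A, ∀ y ∈ A, x * y = y * x) ∧
      ∀ H : Subgroup G, (∀ x ∈ H, ∀ y ∈ H, x * y = y * x) →
        (A.subgroupOf H).index ≤ 12 ^ (finrank ℂ V) := by
  obtain ⟨c, hc⟩ := exists_invariant_core ρ
  let _ : NormedAddCommGroup V := c.toNormedAddCommGroup
  let _ : InnerProductSpace ℂ V := InnerProductSpace.ofCore c.toCore
  obtain ⟨A, h1, h2, -, h3⟩ := exists_abelian_normal_of_unitary (E := V) ρ (fun g u v => hc g u v)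
    hinj
  exact ⟨A, h1, h2, h3⟩

end General

end Cfsg.Agent.Lin
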