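import Mathlib.Analysis.InnerProductSpace.PiL2
import Mathlib.Analysis.InnerProductSpace.Projection.FiniteDimensional
import Mathlib.LinearAlgebra.Eigenspace.Pi
import Mathlib.LinearAlgebra.Eigenspace.Semisimple
import Mathlib.LinearAlgebra.Eigenspace.Triangularizable
import Mathlib.FieldTheory.Separable
import Mathlib.RepresentationTheory.Basic
import Mathlib.GroupTheory.OrderOfElement
import Mathlib.GroupTheory.Index
import Mathlib.GroupTheory.Commutator.Basic
import Mathlib.Analysis.Complex.Basic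
import Mathlib.Analysis.Complex.Polynomial.Basic

/-!
# Unitary representations of finite groups and the Frobenius-Blichfeldt commutation lemma
-/

set_option autoImplicit false

namespace Cfsg.Agent.Lin

open Module Polynomial

open scoped InnerProductSpace commutatorElement

set_option linter.unusedSectionVars false

section Eigen

variable {G : Type*} [Group G] {E : Type*} [AddCommGroup E] [Module ℂ E] [FiniteDimensional ℂ E]

/-- an operator of finite order on a complex space is semisimple -/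
theorem isSemisimple_of_pow_eq_one (f : Module.End ℂ E) (m : ℕ) (hm : m ≠ 0) (hf : f ^ m = 1) :
    f.IsSemisimple := by
  apply Module.End.isSemisimple_of_squarefree_aeval_eq_zero (p := X ^ m - 1)
  · apply Polynomial.Separable.squarefree
    rw [X_pow_sub_one_separable_iff]
    exact_mod_cast hm
  · simp [hf]

/-- A commuting family of finite order operators is simultaneously diagonalizable. -/
theorem iSup_iInf_eigenspace_eq_top {ι : Type*} (f : ι → Module.End ℂ E)
    (hc : ∀ i j, Commute (f i) (f j)) (hf : ∀ i, ∃ m : ℕ, m ≠ 0 ∧ f i ^ m = 1) :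
    ⨆ χ : ι → ℂ, ⨅ i, (f i).eigenspace (χ i) = ⊤ := by
  have hs : ∀ i, (f i).IsSemisimple := fun i => by
    obtain ⟨m, hm, h⟩ := hf i
    exact isSemisimple_of_pow_eq_one (f i) m hm h
  have := Module.End.iSup_iInf_maxGenEigenspace_eq_top_of_iSup_maxGenEigenspace_eq_top_of_commute
    f (fun i j _ => hc i j) (fun i => Module.End.iSup_maxGenEigenspace_eq_top (f i))
  have h2 : ∀ i μ, (f i).maxGenEigenspace μ = (f i).eigenspace μ := fun i μ =>
    (Module.End.isFinitelySemisimple_iff_isSemisimple.mpr (hs i)).maxGenEigenspace_eq_eigenspace μ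
  simpa [h2] using this

end Eigen

section Unitary

variable {G : Type*} [Group G] {E : Type*} [NormedAddCommGroup E] [InnerProductSpace ℂ E]
  [FiniteDimensional ℂ E]

theorem norm_eq_one_of_isometry (f : Module.End ℂ E) (hiso : ∀ u v, ⟪f u, f v⟫_ℂ = ⟪u, v⟫_ℂ)
    (μ : ℂ) (v : E) (hv : v ≠ 0) (h : f v = μ • v) : (starRingEnd ℂ) μ * μ = 1 := by
  have h1 := hiso v v
  rw [h, inner_smul_left, inner_smul_right, ← mul_assoc] at h1
  have h2 : ⟪v, v⟫_ℂ ≠ 0 := inner_self_ne_zero.mpr hv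
  exact mul_right_cancel₀ h2 (by rw [h1, one_mul])

/-- orthonormal basis of common eigenvectors for a commuting family of isometries of finite order -/
theorem exists_orthonormal_eigenbasis {ι : Type*} (f : ι → Module.End ℂ E)
    (hc : ∀ i j, Commute (f i) (f j)) (hf : ∀ i, ∃ m : ℕ, m ≠ 0 ∧ f i ^ m = 1)
    (hiso : ∀ i u v, ⟪f i u, f i v⟫_ℂ = ⟪u, v⟫_ℂ) :
    ∃ (b : OrthonormalBasis (Fin (finrank ℂ E)) ℂ E) (μ : Fin (finrank ℂ E) → ι → ℂ),
      ∀ j i, f i (b j) = μ j i • b j := by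
  classical
  set W : (ι → ℂ) → Submodule ℂ E := fun χ => ⨅ i, (f i).eigenspace (χ i) with hW
  have htop : ⨆ χ, W χ = ⊤ := iSup_iInf_eigenspace_eq_top f hc hf
  have hmem : ∀ (χ : ι → ℂ) (v : E), v ∈ W χ → ∀ i, f i v = χ i • v := by
    intro χ v hv i
    simp only [hW, Submodule.mem_iInf] at hv
    exact Module.End.mem_eigenspace_iff.mp (hv i)
  have horth : OrthogonalFamily ℂ (fun χ => W χ) fun χ => (W χ).subtypeₗᵢ := by
    intro χ ψ hne v w
    obtain ⟨i, hi⟩ : ∃ i, χ i ≠ ψ i := by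
      by_contra h; push Not at h; exact hne (funext h)
    have hv : f i (v : E) = χ i • (v : E) := hmem χ v v.2 i
    have hw : f i (w : E) = ψ i • (w : E) := hmem ψ w w.2 i
    change ⟪(v : E), (w : E)⟫_ℂ = 0
    by_cases hv0 : (v : E) = 0
    · simp [hv0]
    have h1 := norm_eq_one_of_isometry (f i) (hiso i) (χ i) v hv0 hv
    have h2 := hiso i v w
    rw [hv, hw, inner_smul_left, inner_smul_right, ← mul_assoc] at h2
    by_contra hne0
    have h3 : (starRingEnd ℂ) (χ i) * ψ i = 1 := mul_right_cancel₀ hne0 (by rw [h2, one_mul])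
    apply hi
    have hχ : (starRingEnd ℂ) (χ i) ≠ 0 := by
      intro h0; rw [h0, zero_mul] at h1; exact zero_ne_one h1
    exact mul_left_cancel₀ hχ (h1.trans h3.symm)
  -- restrict to nonzero ones
  let J := {χ : ι → ℂ // W χ ≠ ⊥}
  have hfin : Finite J := (WellFoundedGT.finite_ne_bot_of_iSupIndep horth.independent).to_subtype
  have : Fintype J := Fintype.ofFinite J
  have horth' : OrthogonalFamily ℂ (fun χ : J => W χ.1) fun χ => (W χ.1).subtypeₗᵢ :=
    horth.comp Subtype.val_injective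
  have htop' : ⨆ χ : J, W χ.1 = ⊤ := by
    rw [← htop]
    apply le_antisymm
    · exact iSup_le fun χ => le_iSup W χ.1
    · refine iSup_le fun χ => ?_
      by_cases h : W χ = ⊥
      · rw [h]; exact bot_le
      · exact le_iSup (fun χ : J => W χ.1) ⟨χ, h⟩
  have hint : DirectSum.IsInternal (fun χ : J => W χ.1) := by
    rw [horth'.isInternal_iff, htop', Submodule.top_orthogonal_eq_bot]
  refine ⟨hint.subordinateOrthonormalBasis rfl horth',
    fun j i => (hint.subordinateOrthonormalBasisIndex rfl j horth').1 i, ?_⟩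
  intro j i
  exact hmem _ _ (hint.subordinateOrthonormalBasis_subordinate rfl j horth') i

/-- norm bound of an operator diagonal in an orthonormal basis -/
theorem norm_le_of_diag {n : ℕ} (b : OrthonormalBasis (Fin n) ℂ E) (T : Module.End ℂ E)
    (μ : Fin n → ℂ) (hT : ∀ j, T (b j) = μ j • b j) (r : ℝ) (hr : 0 ≤ r) (hμ : ∀ j, ‖μ j‖ ≤ r)
    (v : E) : ‖T v‖ ≤ r * ‖v‖ := by
  have h1 : ∀ j, ⟪b j, T v⟫_ℂ = μ j * ⟪b j, v⟫_ℂ := by
    intro j
    conv_lhs => rw [← b.sum_repr v]
    rw [map_sum, inner_sum]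
    rw [Finset.sum_eq_single j]
    · rw [map_smul, hT, inner_smul_right, inner_smul_right, b.repr_apply_apply]
      simp [mul_comm]
    · intro k _ hk
      rw [map_smul, hT, inner_smul_right, inner_smul_right]
      rw [b.inner_eq_zero (Ne.symm hk)]; simp
    · intro h; exact absurd (Finset.mem_univ j) h
  have h2 : ‖T v‖ ^ 2 ≤ (r * ‖v‖) ^ 2 := by
    rw [← b.sum_sq_norm_inner_right (T v), mul_pow, ← b.sum_sq_norm_inner_right v, Finset.mul_sum]
    apply Finset.sum_le_sum
    intro j _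
    rw [h1, norm_mul, mul_pow]
    gcongr
    exact hμ j
  exact le_of_sq_le_sq h2 (by positivity)

/-- an operator is near a scalar if it is at distance `< 1/2` from one -/
def Near (T : Module.End ℂ E) : Prop :=
  ∃ (c : ℂ) (r : ℝ), 0 ≤ r ∧ r < 1 / 2 ∧ ∀ v, ‖T v - c • v‖ ≤ r * ‖v‖

theorem Near.inner_ne_zero {T : Module.End ℂ E} (h : Near T) (hiso : ∀ v, ‖T v‖ = ‖v‖) (v : E)
    (hv : v ≠ 0) : ⟪T v, v⟫_ℂ ≠ 0 := by
  obtain ⟨c, r, hr0, hr, hT⟩ := h
  have hv' : 0 < ‖v‖ := norm_pos_iff.mpr hv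
  have h1 : ‖v‖ ≤ r * ‖v‖ + ‖c‖ * ‖v‖ := by
    calc ‖v‖ = ‖T v‖ := (hiso v).symm
      _ = ‖(T v - c • v) + c • v‖ := by rw [sub_add_cancel]
      _ ≤ ‖T v - c • v‖ + ‖c • v‖ := norm_add_le _ _
      _ ≤ r * ‖v‖ + ‖c‖ * ‖v‖ := by rw [norm_smul]; gcongr; exact hT v
  have hc : 1 ≤ r + ‖c‖ := by
    rw [← add_mul] at h1
    by_contra hcon
    push Not at hcon
    have : (r + ‖c‖) * ‖v‖ < 1 * ‖v‖ := by gcongr
    linarith
  intro h0
  have h2 : ⟪T v - c • v, v⟫_ℂ = - ((starRingEnd ℂ) c * ⟪v, v⟫_ℂ) := by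
    rw [inner_sub_left, h0, inner_smul_left, zero_sub]
  have h3 : ‖(starRingEnd ℂ) c * ⟪v, v⟫_ℂ‖ ≤ r * ‖v‖ * ‖v‖ := by
    rw [← norm_neg, ← h2]
    exact (norm_inner_le_norm _ _).trans (by gcongr; exact hT v)
  rw [norm_mul, RCLike.norm_conj, inner_self_eq_norm_sq_to_K] at h3
  have h4 : ‖((‖v‖ : ℂ)) ^ 2‖ = ‖v‖ * ‖v‖ := by
    rw [norm_pow, Complex.norm_real, norm_norm, sq]
  have h5 : ‖c‖ * (‖v‖ * ‖v‖) ≤ r * (‖v‖ * ‖v‖) := by
    have h6 : ‖c‖ * ‖((‖v‖ : ℂ)) ^ 2‖ ≤ r * ‖v‖ * ‖v‖ := h3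
    rw [h4] at h6
    linarith
  have h7 : ‖c‖ ≤ r := le_of_mul_le_mul_right h5 (by positivity)
  linarith

variable (ρ : Representation ℂ G E) (hiso : ∀ g u v, ⟪ρ g u, ρ g v⟫_ℂ = ⟪u, v⟫_ℂ)

include hiso

theorem norm_map (g : G) (v : E) : ‖ρ g v‖ = ‖v‖ := by
  have h := hiso g v v
  rw [inner_self_eq_norm_sq_to_K, inner_self_eq_norm_sq_to_K] at h
  have h2 : ‖ρ g v‖ ^ 2 = ‖v‖ ^ 2 := by exact_mod_cast h
  nlinarith [norm_nonneg (ρ g v), norm_nonneg v, sq_nonneg (‖ρ g v‖ - ‖v‖)]

theorem inner_inv (g : G) (u v : E) : ⟪ρ g⁻¹ u, v⟫_ℂ = ⟪u, ρ g v⟫_ℂ := by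
  rw [← hiso g, ← Module.End.mul_apply, ← map_mul, mul_inv_cancel, map_one, Module.End.one_apply]

theorem near_inv (g : G) (h : Near (ρ g)) : Near (ρ g⁻¹) := by
  obtain ⟨c, r, hr0, hr, hT⟩ := h
  refine ⟨(starRingEnd ℂ) c, r, hr0, hr, fun v => ?_⟩
  set w := ρ g⁻¹ v - (starRingEnd ℂ) c • v with hw
  have h0 : ∀ w' : E, ⟪ρ g⁻¹ v - (starRingEnd ℂ) c • v, w'⟫_ℂ = ⟪v, ρ g w' - c • w'⟫_ℂ := by
    intro w'
    rw [inner_sub_left, inner_inv ρ hiso, inner_smul_left, inner_sub_right, inner_smul_right,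
      RCLike.conj_conj]
  have h1 : ⟪w, w⟫_ℂ = ⟪v, ρ g w - c • w⟫_ℂ := h0 w
  have h2 : ‖w‖ * ‖w‖ ≤ ‖v‖ * (r * ‖w‖) := by
    have h3 : ‖⟪w, w⟫_ℂ‖ ≤ ‖v‖ * (r * ‖w‖) := by
      rw [h1]; exact (norm_inner_le_norm _ _).trans (by gcongr; exact hT w)
    rwa [inner_self_eq_norm_sq_to_K, norm_pow, RCLike.norm_ofReal, abs_norm, sq] at h3
  by_cases h0 : ‖w‖ = 0
  · rw [h0]; positivity
  · have : 0 < ‖w‖ := lt_of_le_of_ne (norm_nonneg _) (Ne.symm h0)
    exact le_of_mul_le_mul_right (by linarith) this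

theorem near_conj (g h : G) (hg : Near (ρ g)) : Near (ρ (h * g * h⁻¹)) := by
  obtain ⟨c, r, hr0, hr, hT⟩ := hg
  refine ⟨c, r, hr0, hr, fun v => ?_⟩
  have h1 : v = ρ h (ρ h⁻¹ v) := by
    rw [← Module.End.mul_apply, ← map_mul, mul_inv_cancel, map_one, Module.End.one_apply]
  have h2 : ρ (h * g * h⁻¹) v - c • v = ρ h (ρ g (ρ h⁻¹ v) - c • ρ h⁻¹ v) := by
    rw [map_sub, map_smul, ← h1]
    simp only [map_mul, Module.End.mul_apply]
  rw [h2, norm_map ρ hiso]
  refine (hT _).trans ?_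
  rw [norm_map ρ hiso]

/-- key step: `x` commutes with `w x w⁻¹` and `w⁻¹` moves no eigenvector of `x` to an orthogonal
vector, then `x` commutes with `w`. -/
theorem step_comm [Finite G] (hinj : Function.Injective ρ) (x w : G)
    (hxw : Commute x (w * x * w⁻¹))
    (hne : ∀ (v : E) (α : ℂ), v ≠ 0 → ρ x v = α • v → ⟪ρ w⁻¹ v, v⟫_ℂ ≠ 0) :
    w * x * w⁻¹ = x := by
  by_contra hcon
  set z : G := w * x * w⁻¹ * x⁻¹ with hz
  have hz1 : z ≠ 1 := by
    intro h
    apply hcon
    rw [hz, mul_inv_eq_one] at h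
    exact h
  have hzx : Commute x z := by
    rw [hz]
    exact hxw.mul_right ((Commute.refl x).inv_right)
  obtain ⟨b, μ, hμ⟩ := exists_orthonormal_eigenbasis (ι := Bool)
    (fun i => if i then ρ x else ρ z)
    (by
      have h1 : Commute (ρ x) (ρ z) := hzx.map ρ
      intro i j
      cases i <;> cases j <;> simp [h1, h1.symm])
    (by
      intro i
      cases i
      · exact ⟨orderOf z, (orderOf_pos z).ne', by
          simp only [Bool.false_eq_true, if_false]; rw [← map_pow, pow_orderOf_eq_one, map_one]⟩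
      · exact ⟨orderOf x, (orderOf_pos x).ne', by
          simp only [if_true]; rw [← map_pow, pow_orderOf_eq_one, map_one]⟩)
    (by intro i; cases i <;> simp [hiso])
  have hx : ∀ j, ρ x (b j) = μ j true • b j := fun j => by simpa using hμ j true
  have hzj : ∀ j, ρ z (b j) = μ j false • b j := fun j => by simpa using hμ j false
  obtain ⟨j, hj⟩ : ∃ j, μ j false ≠ 1 := by
    by_contra h
    push Not at h
    apply hz1
    apply hinj
    rw [map_one]
    apply b.toBasis.ext
    intro j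
    rw [b.coe_toBasis, hzj, h, one_smul, Module.End.one_apply]
  have hb0 : b j ≠ 0 := b.orthonormal.ne_zero j
  apply hne (b j) (μ j true) hb0 (hx j)
  -- u = w⁻¹ b j is an eigenvector of x for ζ α
  set u := ρ w⁻¹ (b j) with hu
  have hxu : ρ x u = (μ j false * μ j true) • u := by
    have h1 : ρ (w * x * w⁻¹) (b j) = (μ j false * μ j true) • b j := by
      have : w * x * w⁻¹ = z * x := by rw [hz]; group
      rw [this, map_mul, Module.End.mul_apply, hx, map_smul, hzj, smul_smul, mul_comm]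
    have h2 : ρ x u = ρ w⁻¹ (ρ (w * x * w⁻¹) (b j)) := by
      rw [hu, ← Module.End.mul_apply, ← Module.End.mul_apply, ← map_mul, ← map_mul]
      congr 2; group
    rw [h2, h1, map_smul]
  have h1 := hiso x u (b j)
  rw [hxu, hx, inner_smul_left, inner_smul_right, ← mul_assoc, map_mul, mul_assoc _ _ (μ j true),
    norm_eq_one_of_isometry (ρ x) (hiso x) (μ j true) (b j) hb0 (hx j), mul_one] at h1
  by_contra h0
  apply hj
  have h2 : (starRingEnd ℂ) (μ j false) = 1 := mul_right_cancel₀ h0 (by rw [h1, one_mul])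
  have h3 := congrArg (starRingEnd ℂ) h2
  rwa [RCLike.conj_conj, map_one] at h3

theorem commute_of_commute_commutator [Finite G] (hinj : Function.Injective ρ) (x y : G)
    (hy : Near (ρ y)) (h : Commute x ⁅x, y⁆) : Commute x y := by
  have h1 : Commute x (y * x * y⁻¹) := by
    have h2 : y * x * y⁻¹ = (x⁻¹ * ⁅x, y⁆)⁻¹ := by
      rw [commutatorElement_def]; group
    rw [h2]
    exact ((Commute.refl x).inv_right.mul_right h).inv_right
  have h3 := step_comm ρ hiso hinj x y h1 (fun v α hv _ =>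
    (near_inv ρ hiso y hy).inner_ne_zero (norm_map ρ hiso _) v hv)
  rw [mul_inv_eq_iff_eq_mul] at h3
  exact h3.symm

theorem commute_of_commute_commutator' [Finite G] (hinj : Function.Injective ρ) (x y : G)
    (hx : Near (ρ x)) (h : Commute x ⁅x, ⁅x, y⁆⁆) : Commute x ⁅x, y⁆ := by
  set w := ⁅x, y⁆ with hw
  have h1 : Commute x (w * x * w⁻¹) := by
    have h2 : w * x * w⁻¹ = (x⁻¹ * ⁅x, w⁆)⁻¹ := by
      rw [commutatorElement_def]; group
    rw [h2]
    exact ((Commute.refl x).inv_right.mul_right h).inv_right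
  have h3 := step_comm ρ hiso hinj x w h1 (fun v α hv hα => by
    have hα1 := norm_eq_one_of_isometry (ρ x) (hiso x) α v hv hα
    have hα0 : α ≠ 0 := by rintro rfl; simp at hα1
    have h4 : ρ x⁻¹ v = α⁻¹ • v := by
      have : v = ρ x⁻¹ (ρ x v) := by
        rw [← Module.End.mul_apply, ← map_mul, inv_mul_cancel, map_one, Module.End.one_apply]
      rw [hα, map_smul] at this
      conv_rhs => rw [this]
      rw [smul_smul, inv_mul_cancel₀ hα0, one_smul]
    have h5 : w⁻¹ = (y * x * y⁻¹) * x⁻¹ := by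
      rw [hw, commutatorElement_def]; group
    rw [h5, map_mul, Module.End.mul_apply, h4, map_smul, inner_smul_left]
    refine mul_ne_zero ?_ ?_
    · simpa using hα0
    · exact (near_conj ρ hiso x y hx).inner_ne_zero (norm_map ρ hiso _) v hv)
  rw [mul_inv_eq_iff_eq_mul] at h3
  exact h3.symm

/-- the displacement norm of an operator -/
noncomputable def disp (ρ : Representation ℂ G E) (g : G) : ℝ :=
  ‖LinearMap.toContinuousLinearMap (ρ g - 1)‖

omit hiso in
theorem disp_bound (g : G) (v : E) : ‖ρ g v - v‖ ≤ disp ρ g * ‖v‖ := by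
  have := (LinearMap.toContinuousLinearMap (ρ g - 1)).le_opNorm v
  simpa [disp] using this

omit hiso in
theorem disp_nonneg (g : G) : 0 ≤ disp ρ g := norm_nonneg _

omit hiso in
theorem eq_one_of_disp_eq_zero (hinj : Function.Injective ρ) (g : G) (h : disp ρ g = 0) :
    g = 1 := by
  apply hinj
  rw [map_one]
  ext v
  have := disp_bound ρ g v
  rw [h, zero_mul] at this
  have h2 : ρ g v - v = 0 := norm_eq_zero.mp (le_antisymm this (norm_nonneg _))
  rw [sub_eq_zero] at h2
  simpa using h2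

theorem disp_commutator (x y : G) (c : ℂ) (r : ℝ) (hr0 : 0 ≤ r)
    (hT : ∀ v, ‖ρ x v - c • v‖ ≤ r * ‖v‖) : disp ρ ⁅x, y⁆ ≤ 2 * r * disp ρ y := by
  refine ContinuousLinearMap.opNorm_le_bound _ (by have := disp_nonneg ρ y; positivity) (fun v => ?_)
  set u := ρ (x⁻¹ * y⁻¹) v with hu
  have hvu : v = ρ (y * x) u := by
    rw [hu, ← Module.End.mul_apply, ← map_mul]
    have : y * x * (x⁻¹ * y⁻¹) = 1 := by group
    rw [this, map_one, Module.End.one_apply]
  have hnu : ‖v‖ = ‖u‖ := by rw [hvu, norm_map ρ hiso]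
  have h1 : (LinearMap.toContinuousLinearMap (ρ ⁅x, y⁆ - 1)) v
      = (ρ x (ρ y u - u) - c • (ρ y u - u)) - (ρ y (ρ x u - c • u) - (ρ x u - c • u)) := by
    have h2 : ρ ⁅x, y⁆ v = ρ x (ρ y u) := by
      rw [hu, ← Module.End.mul_apply, ← Module.End.mul_apply, ← map_mul, ← map_mul,
        commutatorElement_def]
      congr 2; group
    have h3 : v = ρ y (ρ x u) := by
      conv_lhs => rw [hvu]
      rw [map_mul, Module.End.mul_apply]
    rw [LinearMap.coe_toContinuousLinearMap', LinearMap.sub_apply, Module.End.one_apply, h2]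
    conv_lhs => rw [h3]
    simp only [map_sub, map_smul, smul_sub]
    abel
  rw [h1]
  calc ‖(ρ x (ρ y u - u) - c • (ρ y u - u)) - (ρ y (ρ x u - c • u) - (ρ x u - c • u))‖
      ≤ ‖ρ x (ρ y u - u) - c • (ρ y u - u)‖ + ‖ρ y (ρ x u - c • u) - (ρ x u - c • u)‖ :=
        norm_sub_le _ _
    _ ≤ r * ‖ρ y u - u‖ + disp ρ y * ‖ρ x u - c • u‖ :=
        add_le_add (hT _) (disp_bound ρ y _)
    _ ≤ r * (disp ρ y * ‖u‖) + disp ρ y * (r * ‖u‖) := by
        have := disp_nonneg ρ y
        gcongr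
        · exact disp_bound ρ y u
        · exact hT u
    _ = 2 * r * disp ρ y * ‖v‖ := by rw [hnu]; ring

/-- **Blichfeldt/Frobenius**: elements of a finite group of unitary operators which are at
distance `< 1/2` from scalars commute. -/
theorem commute_of_near [Finite G] (hinj : Function.Injective ρ) (x y : G) (hx : Near (ρ x))
    (hy : Near (ρ y)) : Commute x y := by
  obtain ⟨s, hs0, hs⟩ : ∃ s : ℕ → G, s 0 = y ∧ ∀ k, s (k + 1) = ⁅x, s k⁆ :=
    ⟨fun k => Nat.rec y (fun _ w => ⁅x, w⁆) k, rfl, fun k => rfl⟩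
  -- descent
  have hdesc : ∀ k, s (k + 1) = 1 → Commute x y := by
    intro k
    induction k using Nat.strong_induction_on with
    | _ k ih =>
      intro hk
      match k, ih, hk with
      | 0, _, hk =>
        rw [hs, hs0, commutatorElement_eq_one_iff_commute] at hk
        exact hk
      | 1, _, hk =>
        rw [hs, commutatorElement_eq_one_iff_commute, ← zero_add 1, hs, hs0] at hk
        exact commute_of_commute_commutator ρ hiso hinj x y hy hk
      | (k + 2), ih, hk =>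
        rw [hs, commutatorElement_eq_one_iff_commute, hs, hs] at hk
        have h1 := commute_of_commute_commutator' ρ hiso hinj x (s k) hx hk
        apply ih (k + 1) (by omega)
        rw [hs, commutatorElement_eq_one_iff_commute, hs]
        exact h1
  obtain ⟨c, r, hr0, hr, hT⟩ := hx
  by_contra hcon
  have hne : ∀ k, s (k + 1) ≠ 1 := fun k hk => hcon (hdesc k hk)
  have hanti : StrictAnti (fun k => disp ρ (s (k + 1))) := by
    apply strictAnti_nat_of_succ_lt
    intro k
    have h1 := disp_commutator ρ hiso x (s (k + 1)) c r hr0 hT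
    rw [← hs] at h1
    have h2 : 0 < disp ρ (s (k + 1)) := lt_of_le_of_ne (disp_nonneg ρ _)
      (fun h => hne k (eq_one_of_disp_eq_zero ρ hinj _ h.symm))
    nlinarith
  have hinj' : Function.Injective (fun k => s (k + 1)) := by
    intro a b hab
    exact hanti.injective (congrArg (disp ρ) hab)
  exact not_injective_infinite_finite _ hinj'

end Unitary

end Cfsg.Agent.Lin
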